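import Groth.Agent.ConnInf.StrictEtale
import Groth.Agent.Pi1X.FEtFull
import Groth.Agent.AlgSpVal.DvrThrough
import Groth.Prelude.Def_FEt

/-!
Full faithfulness of restriction to dense opens which are connected at infinity.
-/

universe u

open CategoryTheory CategoryTheory.Limits AlgebraicGeometry IsLocalRing TopologicalSpace Topology

set_option linter.style.haveILetI false

namespace Groth.Agent.ConnInf

variable {X : Scheme.{u}} (U : X.Opens) (hU : Dense (U : Set X))
  (hsh : ∀ x : X, x ∉ U → ∀ (R : Type u) [CommRing R] [IsLocalRing R] [Algebra (X.presheaf.stalk x) R]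
      [IsLocalHom (algebraMap (X.presheaf.stalk x) R)] [Hensel.IsStrictHenselization (X.presheaf.stalk x) R],
      ConnectedSpace (FEt.puncturedSpec R : Scheme.{u}))

include hU hsh in
set_option backward.isDefEq.respectTransparency false in
/-- If closures of clopen subsets over the open consist of specializations, restriction is fully faithful. -/
theorem full_faithful_of_closure
    (hcl : ∀ (W : FEt.Cat X) (C : Set ↥(pullback W.hom U.ι)), IsClopen C → ∀ w ∈ closure ((pullback.fst W.hom U.ι).base '' C),
      ∃ c ∈ (pullback.fst W.hom U.ι).base '' C, c ⤳ w) :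
    (FEt.restrict U.ι).Full ∧ (FEt.restrict U.ι).Faithful := by
  have hC : ∀ O : Set X, IsClopen O → O.Nonempty → (O ∩ Set.range U.ι.base).Nonempty := fun O hO hne => by
    rw [Scheme.Opens.range_ι]
    exact hU.inter_open_nonempty O hO.2 hne
  refine ⟨Pi1X.restrict_full U.ι hC fun W C hWC => ?_, Pi1X.restrict_faithful U.ι hC⟩
  let g : W.left ⟶ X := W.hom
  haveI : Etale g := W.prop.2
  let j := pullback.fst W.hom U.ι
  have hj : Function.Injective j.base := j.isOpenEmbedding.injective
  let Cw := j.base '' C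
  let Dw := j.base '' Cᶜ
  have hrange : Set.range j.base = g.base ⁻¹' (U : Set X) := by
    rw [Scheme.Pullback.range_fst, Scheme.Opens.range_ι]; rfl
  have hCo : IsOpen Cw := j.isOpenEmbedding.isOpenMap _ hWC.2
  have hDo : IsOpen Dw := j.isOpenEmbedding.isOpenMap _ hWC.compl.2
  have hunion : Cw ∪ Dw = g.base ⁻¹' (U : Set X) := by
    rw [← hrange, ← Set.image_union, Set.union_compl_self, Set.image_univ]
  have hdisj : Disjoint Cw Dw := (Set.disjoint_image_iff hj).2 disjoint_compl_right
  have hdense : closure Cw ∪ closure Dw = Set.univ := by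
    rw [← closure_union, hunion]
    exact (hU.preimage g.isOpenMap).closure_eq
  have hE : closure Cw ∩ closure Dw = ∅ := by
    by_contra hne
    obtain ⟨e₀, he₀⟩ := Set.nonempty_iff_ne_empty.2 hne
    let E : Set W.left := closure Cw ∩ closure Dw
    have hEc : IsClosed E := isClosed_closure.inter isClosed_closure
    haveI : QuasiSober ↥E := hEc.isClosedEmbedding_subtypeVal.quasiSober
    let T := irreducibleComponent (⟨e₀, he₀⟩ : ↥E)
    have hT : IsIrreducible T := isIrreducible_irreducibleComponent
    obtain ⟨w₀, hw₀⟩ := QuasiSober.sober hT isClosed_irreducibleComponent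
    let w : W.left := w₀.1
    have hmax : ∀ y ∈ E, y ⤳ w → y = w := by
      intro y hy hyw
      have hyw' : (⟨y, hy⟩ : ↥E) ⤳ w₀ := subtype_specializes_iff _ _ |>.2 hyw
      have h1 : T ⊆ closure {(⟨y, hy⟩ : ↥E)} := by
        rw [← hw₀.def]
        exact closure_minimal (Set.singleton_subset_iff.2 (specializes_iff_mem_closure.1 hyw')) isClosed_closure
      have h2 : closure {(⟨y, hy⟩ : ↥E)} ⊆ T :=
        ((irreducibleComponent_mem_irreducibleComponents (⟨e₀, he₀⟩ : ↥E)).eq_of_ge (isIrreducible_singleton.closure) h1).le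
      have h3 : w₀ ⤳ (⟨y, hy⟩ : ↥E) := hw₀.specializes (h2 (subset_closure rfl))
      exact (((subtype_specializes_iff _ _).1 h3).antisymm hyw).symm.eq
    have hwE : w ∈ E := w₀.2
    have hwU : w ∉ g.base ⁻¹' (U : Set X) := by
      intro h
      rw [← hunion] at h
      rcases h with h | h
      · obtain ⟨z, hz1, hz2⟩ := mem_closure_iff.1 hwE.2 Cw hCo h
        exact Set.disjoint_left.1 hdisj hz1 hz2
      · obtain ⟨z, hz1, hz2⟩ := mem_closure_iff.1 hwE.1 Dw hDo h
        exact Set.disjoint_left.1 hdisj hz2 hz1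
    obtain ⟨R, _, c, _, _, hflat, hloc, hc, hstrict⟩ := exists_strict_of_etale g w
    haveI := hstrict
    haveI := hloc
    haveI : ConnectedSpace (FEt.puncturedSpec R : Scheme.{u}) := hsh (g.base w) hwU R
    let φ : Spec R ⟶ W.left := Spec.map c ≫ W.left.fromSpecStalk w
    have hφclosed : φ.base (closedPoint R) = w := by
      show (Spec.map c ≫ W.left.fromSpecStalk w).base (closedPoint R) = w
      rw [Scheme.Hom.comp_apply]
      rw [show (Spec.map c).base (closedPoint R) = closedPoint (W.left.presheaf.stalk w) from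
        IsLocalRing.comap_closedPoint c.hom]
      exact Scheme.fromSpecStalk_closedPoint
    have hsp : ∀ z : Spec R, φ.base z ⤳ w := fun z =>
      hφclosed ▸ (IsLocalRing.specializes_closedPoint (R := R) z).map φ.continuous
    have hpunct : ∀ z : Spec R, φ.base z = w → z = closedPoint R := by
      intro z hz
      have h1 : (g.stalkMap w ≫ c) = CommRingCat.ofHom (algebraMap (X.presheaf.stalk (g.base w)) R) := hc.symm
      have h2 : (Spec.map c).base z = closedPoint (W.left.presheaf.stalk w) := by
        apply (W.left.fromSpecStalk w).isEmbedding.injective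
        rw [← Scheme.Hom.comp_apply]
        exact hz.trans Scheme.fromSpecStalk_closedPoint.symm
      refine PrimeSpectrum.ext ((maximalIdeal.isMaximal R).eq_of_le z.isPrime.ne_top ?_).symm
      rw [← Hensel.map_maximalIdeal_of_isStrictHenselization (X.presheaf.stalk (g.base w)) R, Ideal.map_le_iff_le_comap]
      intro a ha
      have ha' : g.stalkMap w a ∈ maximalIdeal (W.left.presheaf.stalk w) :=
        fun hu => ha ((isUnit_map_iff (g.stalkMap w).hom a).1 hu)
      have h3 : g.stalkMap w a ∈ ((Spec.map c).base z).asIdeal := by rw [h2]; exact ha'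
      have h4 : c (g.stalkMap w a) ∈ z.asIdeal := h3
      show algebraMap (X.presheaf.stalk (g.base w)) R a ∈ z.asIdeal
      have h5 : c (g.stalkMap w a) = algebraMap (X.presheaf.stalk (g.base w)) R a := congr($(h1).hom a)
      rwa [h5] at h4
    have hlift : ∀ y : W.left, y ⤳ w → ∃ z : Spec R, φ.base z = y := by
      intro y hy
      obtain ⟨q, hq⟩ : y ∈ Set.range (W.left.fromSpecStalk w).base := by
        rw [Scheme.range_fromSpecStalk]; exact hy
      letI : Algebra (W.left.presheaf.stalk w) R := c.hom.toAlgebra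
      haveI : Module.Flat (W.left.presheaf.stalk w) R := hflat
      haveI : IsLocalHom (algebraMap (W.left.presheaf.stalk w) R) := hloc
      haveI : Module.FaithfullyFlat (W.left.presheaf.stalk w) R := Module.FaithfullyFlat.of_flat_of_isLocalHom
      obtain ⟨z, hz⟩ := PrimeSpectrum.comap_surjective_of_faithfullyFlat (B := R) q
      refine ⟨z, ?_⟩
      show (Spec.map c ≫ W.left.fromSpecStalk w).base z = y
      rw [Scheme.Hom.comp_apply, show (Spec.map c).base z = q from hz]
      exact hq
    let P : Set (Spec R) := (FEt.puncturedSpec (R : Type u) : Set _)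
    have hP : _root_.IsPreconnected P :=
      (isConnected_iff_connectedSpace.2 (show ConnectedSpace ↥P from ‹ConnectedSpace (FEt.puncturedSpec R : Scheme.{u})›)).isPreconnected
    have hside : ∀ (A B : Set W.left), (∀ v ∈ closure A, ∃ a ∈ A, a ⤳ v) → A ⊆ g.base ⁻¹' (U : Set X) → w ∈ closure A →
        (P ∩ φ.base ⁻¹' closure A).Nonempty := by
      intro A B hA hAU hwA
      obtain ⟨a, ha, haw⟩ := hA w hwA
      obtain ⟨z, hz⟩ := hlift a haw
      refine ⟨z, fun hzc => hwU ?_, show φ.base z ∈ closure A by rw [hz]; exact subset_closure ha⟩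
      have : a = w := by rw [← hz, Set.mem_singleton_iff.1 hzc, hφclosed]
      exact this ▸ hAU ha
    obtain ⟨z, hz, hzC, hzD⟩ := isPreconnected_closed_iff.1 hP _ _
      (isClosed_closure.preimage φ.continuous) (isClosed_closure.preimage φ.continuous)
      (fun z _ => (hdense.symm.subset (Set.mem_univ (φ.base z)) : φ.base z ∈ closure Cw ∪ closure Dw))
      (hside Cw Dw (hcl W C hWC) (hunion ▸ Set.subset_union_left) hwE.1)
      (hside Dw Cw (hcl W Cᶜ hWC.compl) (hunion ▸ Set.subset_union_right) hwE.2)
    exact hz (Set.mem_singleton_iff.2 (hpunct z (hmax _ ⟨hzC, hzD⟩ (hsp z))))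
  refine ⟨closure Cw, ⟨isClosed_closure, ?_⟩, ?_⟩
  · rw [← isClosed_compl_iff, show (closure Cw)ᶜ = closure Dw from ?_]
    · exact isClosed_closure
    · exact (IsCompl.of_eq hE hdense).compl_eq
  · ext p
    constructor
    · intro hp
      by_contra hpC
      exact Set.eq_empty_iff_forall_notMem.1 hE _ ⟨hp, subset_closure ⟨p, hpC, rfl⟩⟩
    · exact fun hp => subset_closure ⟨p, hp, rfl⟩

/-- Closures of clopen subsets along quasi-compact morphisms consist of specializations. -/
theorem exists_specializes_of_quasiCompact {P W : Scheme.{u}} (j : P ⟶ W) [QuasiCompact j] (C : Set P)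
    (hC : IsClopen C) (w : W) (hw : w ∈ closure (j.base '' C)) : ∃ c ∈ j.base '' C, c ⤳ w := by
  obtain ⟨_, ⟨V₀, hV, rfl⟩, hwV, -⟩ := W.isBasis_affineOpens.exists_subset_of_mem_open (Set.mem_univ w) isOpen_univ
  let V : W.Opens := V₀
  haveI : IsAffine (V : Scheme.{u}) := hV
  let O : (j ⁻¹ᵁ V).toScheme.Opens := ⟨(j ⁻¹ᵁ V).ι.base ⁻¹' C, hC.2.preimage (j ⁻¹ᵁ V).ι.continuous⟩
  haveI : CompactSpace (j ⁻¹ᵁ V : Scheme.{u}) := isCompact_iff_compactSpace.1 (j.isCompact_preimage hV.isCompact)
  haveI : CompactSpace (O : Scheme.{u}) :=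
    isCompact_iff_compactSpace.1 ((hC.1.preimage (j ⁻¹ᵁ V).ι.continuous).isCompact)
  let h : (O : Scheme.{u}) ⟶ (V : Scheme.{u}) := O.ι ≫ (j ∣_ V)
  have hval : ∀ x, V.ι.base (h.base x) = j.base ((j ⁻¹ᵁ V).ι.base (O.ι.base x)) := fun x => by
    rw [← Scheme.Hom.comp_apply, ← Scheme.Hom.comp_apply, ← Scheme.Hom.comp_apply]
    simp only [h, Category.assoc, morphismRestrict_ι]
  have hv : (⟨w, hwV⟩ : (V : Scheme.{u})) ∈ closure (Set.range h.base) := by
    rw [V.ι.isOpenEmbedding.isInducing.closure_eq_preimage_closure_image]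
    show w ∈ closure (V.ι.base '' Set.range h.base)
    refine closure_mono ?_ (V.isOpen.closure_inter ⟨hw, hwV⟩)
    rintro _ ⟨⟨p, hp, rfl⟩, hpV⟩
    exact ⟨_, ⟨⟨⟨p, hpV⟩, hp⟩, rfl⟩, hval _⟩
  obtain ⟨x, hx⟩ := AlgSpVal.exists_specializes_of_mem_closure_range h hv
  refine ⟨V.ι.base (h.base x), ⟨_, (O.ι.base x |> fun _ => x.2), (hval x).symm⟩, hx.map V.ι.continuous⟩

/-- Maximal points. -/
theorem exists_maximal_generalization {T : Type u} [TopologicalSpace T] [QuasiSober T] [T0Space T] (y : T) :
    ∃ η, η ⤳ y ∧ ∀ z, z ⤳ η → z = η := by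
  obtain ⟨η, hη⟩ := QuasiSober.sober (isIrreducible_irreducibleComponent (x := y)) isClosed_irreducibleComponent
  refine ⟨η, hη.specializes mem_irreducibleComponent, fun z hz => ?_⟩
  have h1 : irreducibleComponent y ⊆ closure {z} := by
    rw [← hη.def]
    exact closure_minimal (Set.singleton_subset_iff.2 (specializes_iff_mem_closure.1 hz)) isClosed_closure
  have h2 : closure {z} ⊆ irreducibleComponent y :=
    ((irreducibleComponent_mem_irreducibleComponents y).eq_of_ge (isIrreducible_singleton.closure) h1).le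
  exact ((hz.antisymm (hη.specializes (h2 (subset_closure rfl))))).eq

/-- The maximal points of a space with finitely many components are finite. -/
theorem finite_maximal {T : Type u} [TopologicalSpace T] [T0Space T] (h : (irreducibleComponents T).Finite) :
    {η : T | ∀ z, z ⤳ η → z = η}.Finite ∨ ¬ QuasiSober T := by
  by_cases hs : QuasiSober T
  · left
    refine Set.Finite.of_finite_image (f := fun η => closure ({η} : Set T)) (h.subset ?_) ?_
    · rintro _ ⟨η, hη, rfl⟩
      obtain ⟨μ, hμ⟩ := QuasiSober.sober (isIrreducible_irreducibleComponent (x := η)) isClosed_irreducibleComponent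
      have : μ = η := hη μ (hμ.specializes mem_irreducibleComponent)
      show closure {η} ∈ irreducibleComponents T
      rw [← this, hμ.def]
      exact irreducibleComponent_mem_irreducibleComponents η
    · exact fun a _ b _ hab => ((specializes_iff_closure_subset.2 hab.ge).antisymm (specializes_iff_closure_subset.2 hab.le)).eq
  · exact Or.inr hs

set_option backward.isDefEq.respectTransparency false in
/-- Closures of opens of finite étale covers consist of specializations if there are few components. -/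
theorem exists_specializes_of_components
    (hirr : ∀ V : X.Opens, IsCompact (V : Set X) → (irreducibleComponents ↥V).Finite)
    {W : Scheme.{u}} (g : W ⟶ X) [IsFinite g] [Flat g] (O : Set W) (hO : IsOpen O) (w : W) (hw : w ∈ closure O) :
    ∃ c ∈ O, c ⤳ w := by
  obtain ⟨_, ⟨V, hV, rfl⟩, hwV, -⟩ := X.isBasis_affineOpens.exists_subset_of_mem_open (Set.mem_univ (g.base w)) isOpen_univ
  haveI : QuasiSober ↥V := V.isOpen.isOpenEmbedding_subtypeVal.quasiSober
  have hfin : {η : ↥V | ∀ z, z ⤳ η → z = η}.Finite := (finite_maximal (hirr V hV.isCompact)).resolve_right (fun h => h ‹_›)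
  let N := g ⁻¹ᵁ V
  let M : Set W := {η | η ∈ N ∧ ∀ z, z ⤳ η → z = η}
  have hM : M.Finite := by
    refine ((hfin.image Subtype.val).preimage' (f := g.base) fun b _ => g.finite_preimage_singleton b).subset ?_
    rintro η ⟨hηN, hη⟩
    refine ⟨⟨g.base η, hηN⟩, fun z hz => ?_, rfl⟩
    obtain ⟨z', hz', hz'e⟩ := Flat.generalizingMap g ((subtype_specializes_iff z ⟨g.base η, hηN⟩).1 hz)
    exact Subtype.ext (by rw [← hz'e, hη z' hz'])
  have hsub : O ∩ N ⊆ closure (M ∩ O) := by
    rintro y ⟨hyO, hyN⟩
    obtain ⟨η, hη, hmax⟩ := exists_maximal_generalization (T := W) y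
    refine closure_mono (Set.singleton_subset_iff.2 ?_) (specializes_iff_mem_closure.1 hη)
    exact ⟨⟨hη.mem_open N.isOpen hyN, hmax⟩, hη.mem_open hO hyO⟩
  have hw' : w ∈ closure (M ∩ O) :=
    closure_minimal hsub isClosed_closure (N.isOpen.closure_inter ⟨hw, hwV⟩)
  rw [← Set.biUnion_of_singleton (M ∩ O), (hM.inter_of_left O).closure_biUnion, Set.mem_iUnion₂] at hw'
  obtain ⟨η, hη, hw''⟩ := hw'
  exact ⟨η, hη.2, specializes_iff_mem_closure.2 hw''⟩

end Groth.Agent.ConnInf
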