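import Groth.Agent.EtAlg7.EssEtale
import Groth.Agent.Hensel.Henselization
import Groth.Agent.Hensel.HenselizationProps
import Groth.Agent.EssEtLib.LocalHom
import Mathlib

/-!
Strict henselizations along étale morphisms.
-/

universe u

open CategoryTheory IsLocalRing TensorProduct AlgebraicGeometry

set_option linter.style.haveILetI false

namespace Groth.Agent.ConnInf

/-- Local rings of an étale algebra are essentially étale over the local rings below. -/
theorem isEssentiallyEtale_atPrime {A B A' B' : Type u} [CommRing A] [CommRing B] [CommRing A'] [CommRing B']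
    [Algebra A B] [Algebra.Etale A B] [Algebra A A'] [Algebra B B'] [Algebra A B'] [Algebra A' B']
    [IsScalarTower A B B'] [IsScalarTower A A' B'] [IsLocalRing A'] [IsLocalRing B'] [IsLocalHom (algebraMap A' B')]
    (q : Ideal B) [q.IsPrime] (p : Ideal A) [p.IsPrime]
    [IsLocalization.AtPrime A' p] [IsLocalization.AtPrime B' q] :
    EGA4loc.IsEssentiallyEtale A' B' := by
  let C := A' ⊗[A] B
  letI : Algebra B C := Algebra.TensorProduct.rightAlgebra
  let ψ : C →ₐ[A'] B' := Algebra.TensorProduct.lift (Algebra.ofId A' B') (IsScalarTower.toAlgHom A B B')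
    fun _ _ => .all _ _
  letI : Algebra C B' := ψ.toRingHom.toAlgebra
  haveI : IsScalarTower A' C B' := IsScalarTower.of_algebraMap_eq fun a => (ψ.commutes a).symm
  haveI : IsScalarTower B C B' := IsScalarTower.of_algebraMap_eq fun b => by
    show algebraMap B B' b = ψ ((1 : A') ⊗ₜ[A] b)
    rw [Algebra.TensorProduct.lift_tmul, map_one, one_mul]
    rfl
  let q' : Ideal C := (maximalIdeal B').comap ψ.toRingHom
  haveI : q'.IsPrime := Ideal.IsPrime.comap _
  have hq : q'.comap (algebraMap B C) = q := by
    show ((maximalIdeal B').comap (algebraMap C B')).comap (algebraMap B C) = q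
    rw [Ideal.comap_comap, ← IsScalarTower.algebraMap_eq]
    exact IsLocalization.AtPrime.comap_maximalIdeal B' q
  haveI : IsLocalization.AtPrime (Localization.AtPrime q') q := by
    have h := IsLocalization.isLocalization_isLocalization_atPrime_isLocalization
      (Algebra.algebraMapSubmonoid B p.primeCompl) (R := B) (S := C) (T := Localization.AtPrime q') q'
    simpa only [hq] using h
  let e := IsLocalization.algEquiv q.primeCompl (Localization.AtPrime q') B'
  have he : ∀ c : C, e (algebraMap C (Localization.AtPrime q') c) = ψ c := by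
    have h : (e.toRingEquiv.toRingHom).comp (algebraMap C (Localization.AtPrime q')) = ψ.toRingHom := by
      apply IsLocalization.ringHom_ext (Algebra.algebraMapSubmonoid B p.primeCompl)
      ext b
      show e (algebraMap C (Localization.AtPrime q') (algebraMap B C b)) = algebraMap C B' (algebraMap B C b)
      rw [← IsScalarTower.algebraMap_apply, ← IsScalarTower.algebraMap_apply, AlgEquiv.commutes]
    exact fun c => congr($h c)
  refine ⟨C, inferInstance, inferInstance, q', inferInstance, inferInstance, ?_, ⟨(AlgEquiv.ofRingEquiv (f := e.toRingEquiv) fun a => ?_).symm⟩⟩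
  · show ((maximalIdeal B').comap ψ.toRingHom).comap (algebraMap A' C) = _
    rw [Ideal.comap_comap, show ψ.toRingHom.comp (algebraMap A' C) = algebraMap A' B' from ψ.comp_algebraMap]
    exact ((local_hom_TFAE (algebraMap A' B')).out 0 4).1 ‹IsLocalHom (algebraMap A' B')›
  · show e (algebraMap A' (Localization.AtPrime q') a) = algebraMap A' B' a
    rw [IsScalarTower.algebraMap_apply A' C (Localization.AtPrime q'), he, AlgHom.commutes]

/-- A strict henselization of an essentially étale local algebra is a strict henselization of the base. -/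
theorem isStrictHenselization_of_essentiallyEtale {A A' R : Type u} [CommRing A] [IsLocalRing A] [CommRing A']
    [IsLocalRing A'] [CommRing R] [IsLocalRing R] [Algebra A A'] [IsLocalHom (algebraMap A A')]
    [Algebra A' R] [IsLocalHom (algebraMap A' R)] [Algebra A R] [IsScalarTower A A' R]
    [IsLocalHom (algebraMap A R)]
    (h : EGA4loc.IsEssentiallyEtale A A') [H : Hensel.IsStrictHenselization A' R] :
    Hensel.IsStrictHenselization A R where
  henselian := H.henselian
  isSepClosure := by
    haveI := H.isSepClosure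
    haveI := EtAlg7.formallyUnramified h
    haveI := EtAlg7.essFiniteType h
    haveI : Algebra.IsSeparable (ResidueField A) (ResidueField A') := inferInstance
    haveI : IsScalarTower (ResidueField A) (ResidueField A') (ResidueField R) :=
      IsScalarTower.of_algebraMap_eq fun x => by
        obtain ⟨a, rfl⟩ := residue_surjective x
        show residue R (algebraMap A R a) = residue R (algebraMap A' R (algebraMap A A' a))
        rw [← IsScalarTower.algebraMap_apply]
    haveI : Algebra.IsSeparable (ResidueField A') (ResidueField R) := IsSepClosure.separable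
    exact ⟨IsSepClosure.sep_closed (ResidueField A'), Algebra.IsSeparable.trans (ResidueField A) (ResidueField A') _⟩
  universal T _ _ f _ τ hτ := by
    let α : ResidueField A' →+* ResidueField T := τ.comp (ResidueField.map (algebraMap A' R))
    have hα : α.comp (ResidueField.map (algebraMap A A')) = ResidueField.map f := by
      refine Eq.trans ?_ hτ
      ext x
      obtain ⟨a, rfl⟩ := residue_surjective x
      simp only [α, RingHom.comp_apply, ResidueField.map_residue, ← IsScalarTower.algebraMap_apply]
    obtain ⟨ψ, ⟨hψl, hψc, hψr⟩, huniq⟩ := EtAlg7.existsUnique_ringHom h f α hα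
    haveI := hψl
    have hτ' : τ.comp (ResidueField.map (algebraMap A' R)) = ResidueField.map ψ := by
      ext x
      obtain ⟨a, rfl⟩ := residue_surjective x
      rw [ResidueField.map_residue, hψr]
    obtain ⟨g, ⟨hg, hgr⟩, hguniq⟩ := H.universal T ψ τ hτ'
    refine ⟨g, ⟨by rw [IsScalarTower.algebraMap_eq A A' R, ← RingHom.comp_assoc, hg, hψc], hgr⟩, fun g' ⟨hg', hgr'⟩ => ?_⟩
    refine hguniq g' ⟨huniq _ ⟨?_, ?_, fun x => ?_⟩, hgr'⟩
    · have hg'l : IsLocalHom g' := ⟨fun x hx => by
        by_contra hn
        have h0 := (residue_eq_zero_iff x).2 ((mem_maximalIdeal _).2 hn)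
        have h1 := hgr' x
        rw [h0, map_zero, residue_eq_zero_iff] at h1
        exact (mem_maximalIdeal _).1 h1 hx⟩
      exact RingHom.isLocalHom_comp _ _
    · rw [RingHom.comp_assoc, ← IsScalarTower.algebraMap_eq, hg']
    · show residue T (g' (algebraMap A' R x)) = _
      rw [hgr']
      rfl

set_option backward.isDefEq.respectTransparency false in
/-- For an étale morphism a strict henselization of a stalk is one of the stalk below. -/
theorem exists_strict_of_etale {W X : Scheme.{u}} (g : W ⟶ X) [Etale g] (w : W) :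
    ∃ (R : CommRingCat.{u}) (_ : IsLocalRing R) (c : W.presheaf.stalk w ⟶ R) (_ : Algebra (X.presheaf.stalk (g.base w)) R)
      (_ : IsLocalHom (algebraMap (X.presheaf.stalk (g.base w)) R)),
      c.hom.Flat ∧ IsLocalHom c.hom ∧ CommRingCat.ofHom (algebraMap (X.presheaf.stalk (g.base w)) R) = g.stalkMap w ≫ c ∧
      Hensel.IsStrictHenselization (X.presheaf.stalk (g.base w)) R := by
  obtain ⟨_, ⟨V, hV, rfl⟩, hwV, -⟩ :=
    X.isBasis_affineOpens.exists_subset_of_mem_open (Set.mem_univ (g.base w)) isOpen_univ
  obtain ⟨_, ⟨U, hU, rfl⟩, hwU, hUV⟩ :=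
    W.isBasis_affineOpens.exists_subset_of_mem_open (show w ∈ g ⁻¹ᵁ V from hwV) (g ⁻¹ᵁ V).isOpen
  let φ := g.appLE V U hUV
  letI : Algebra Γ(X, V) Γ(W, U) := φ.hom.toAlgebra
  haveI : Algebra.Etale Γ(X, V) Γ(W, U) :=
    RingHom.etale_algebraMap.1 (HasRingHomProperty.appLE (P := @Etale) g ‹_› ⟨V, hV⟩ ⟨U, hU⟩ hUV)
  let OX := X.presheaf.stalk (g.base w)
  let OW := W.presheaf.stalk w
  letI : Algebra Γ(X, V) OX := (X.presheaf.germ V _ hwV).hom.toAlgebra
  letI : Algebra Γ(W, U) OW := (W.presheaf.germ U _ hwU).hom.toAlgebra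
  haveI : IsLocalization.AtPrime OX (hV.primeIdealOf ⟨g.base w, hwV⟩).asIdeal := hV.isLocalization_stalk ⟨g.base w, hwV⟩
  haveI : IsLocalization.AtPrime OW (hU.primeIdealOf ⟨w, hwU⟩).asIdeal := hU.isLocalization_stalk ⟨w, hwU⟩
  letI : Algebra OX OW := (g.stalkMap w).hom.toAlgebra
  haveI : IsLocalHom (algebraMap OX OW) := inferInstanceAs <| IsLocalHom (g.stalkMap w).hom
  letI : Algebra Γ(X, V) OW := ((algebraMap Γ(W, U) OW).comp (algebraMap Γ(X, V) Γ(W, U))).toAlgebra
  haveI : IsScalarTower Γ(X, V) Γ(W, U) OW := IsScalarTower.of_algebraMap_eq fun _ => rfl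
  haveI : IsScalarTower Γ(X, V) OX OW := IsScalarTower.of_algebraMap_eq fun a => by
    show W.presheaf.germ U w hwU (φ a) = g.stalkMap w (X.presheaf.germ V (g.base w) hwV a)
    rw [Scheme.Hom.germ_stalkMap_apply]
    simp only [φ, Scheme.Hom.appLE, CommRingCat.hom_comp, RingHom.coe_comp, Function.comp_apply,
      TopCat.Presheaf.germ_res_apply]
  have hess : EGA4loc.IsEssentiallyEtale OX OW :=
    isEssentiallyEtale_atPrime (hU.primeIdealOf ⟨w, hwU⟩).asIdeal (hV.primeIdealOf ⟨g.base w, hwV⟩).asIdeal
  let R := Groth.Agent.Hensel.StrictHenz OW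
  haveI : IsLocalHom (algebraMap OW R) := inferInstance
  letI : Algebra OX R := ((algebraMap OW R).comp (algebraMap OX OW)).toAlgebra
  haveI : IsScalarTower OX OW R := IsScalarTower.of_algebraMap_eq fun _ => rfl
  haveI : IsLocalHom (algebraMap OX R) := RingHom.isLocalHom_comp _ _
  haveI : Module.FaithfullyFlat OW R := Hensel.faithfullyFlat_of_isStrictHenselization OW R
  exact ⟨CommRingCat.of R, inferInstanceAs (IsLocalRing R), CommRingCat.ofHom (algebraMap OW R),
    inferInstanceAs (Algebra OX R), inferInstanceAs (IsLocalHom (algebraMap OX R)),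
    RingHom.flat_algebraMap_iff.2 inferInstance, inferInstanceAs (IsLocalHom (algebraMap OW R)),
    rfl, isStrictHenselization_of_essentiallyEtale hess⟩

end Groth.Agent.ConnInf
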